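/-
Basic facts on Majorana pairs (Def_AxialAlgebras): eigenvector calculus, transport by automorphisms,
the decomposition of a vector fixed by the involution.
Main results: mem_eigen, pair_map, eigenSum_one_zero, eq_zero_of_quarter_of_even, fixed_decomp.
-/
import Cfsg.Agent.EqLemmas

set_option autoImplicit false
open Cfsg Cfsg.Axial

namespace Cfsg.Agent.Axial

variable {V : Type*} [AddCommGroup V] [Module ℝ V]

theorem mem_eigen {mul : V →ₗ[ℝ] V →ₗ[ℝ] V} {a : V} {c : ℝ} {v : V} :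
    v ∈ eigen mul a c ↔ mul a v = c • v := by
  unfold eigen
  exact Module.End.mem_eigenspace_iff

/-- The eigenvalues 1 and 0 together. -/
theorem eigenSum_one_zero (mul : V →ₗ[ℝ] V →ₗ[ℝ] V) (a : V) :
    eigenSum mul a ({1, 0} : Set ℝ) = eigen mul a 1 ⊔ eigen mul a 0 := by
  simp only [eigenSum, iSup_insert, iSup_singleton]

theorem eigenSum_single (mul : V →ₗ[ℝ] V →ₗ[ℝ] V) (a : V) (c : ℝ) :
    eigenSum mul a ({c} : Set ℝ) = eigen mul a c := by
  simp only [eigenSum, iSup_singleton]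

theorem eigenSum_three (mul : V →ₗ[ℝ] V →ₗ[ℝ] V) (a : V) (c d e : ℝ) :
    eigenSum mul a ({c, d, e} : Set ℝ) = eigen mul a c ⊔ eigen mul a d ⊔ eigen mul a e := by
  simp only [eigenSum, iSup_insert, iSup_singleton, sup_assoc]

theorem eigenSum_spectrum (mul : V →ₗ[ℝ] V →ₗ[ℝ] V) (a : V) :
    eigenSum mul a majoranaSpectrum =
      eigen mul a 1 ⊔ eigen mul a 0 ⊔ eigen mul a (1 / 4) ⊔ eigen mul a (1 / 32) := by
  simp only [eigenSum, majoranaSpectrum, iSup_insert, iSup_singleton, sup_assoc]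

/-- A `1/4`-eigenvector in the sum of the `1`- and `0`-eigenspaces is zero. -/
theorem eq_zero_of_quarter_of_even {mul : V →ₗ[ℝ] V →ₗ[ℝ] V} {a w : V}
    (h : mul a w = (1 / 4 : ℝ) • w) (hw : w ∈ eigenSum mul a ({1, 0} : Set ℝ)) : w = 0 := by
  rw [eigenSum_one_zero, Submodule.mem_sup] at hw
  obtain ⟨p, hp, r, hr, rfl⟩ := hw
  rw [mem_eigen] at hp hr
  simp only [map_add, hp, hr, one_smul, zero_smul, add_zero] at h
  have h2 := congrArg (mul a) h
  simp only [map_smul, map_add, hp, hr, one_smul, zero_smul, add_zero] at h2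
  have hp0 : p = 0 := by
    have h3 : (3 / 4 : ℝ) • p = 0 := by
      calc (3 / 4 : ℝ) • p = p - (1 / 4 : ℝ) • p := by module
        _ = 0 := by rw [← h2, sub_self]
    simpa using (smul_eq_zero.mp h3).resolve_left (by norm_num)
  subst hp0
  have h4 : (1 / 4 : ℝ) • (0 + r) = 0 := h.symm
  simpa using (smul_eq_zero.mp h4).resolve_left (by norm_num)

section Pair

variable {mul : V →ₗ[ℝ] V →ₗ[ℝ] V} {B : LinearMap.BilinForm ℝ V} {μ : V ≃ₗ[ℝ] V} {a : V}

theorem eigen_map (φ : V ≃ₗ[ℝ] V) (hφ : ∀ u v, φ (mul u v) = mul (φ u) (φ v)) (a : V) (c : ℝ) :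
    eigen mul (φ a) c = (eigen mul a c).map (φ : V →ₗ[ℝ] V) := by
  ext v
  simp only [Submodule.mem_map, mem_eigen, LinearEquiv.coe_coe]
  constructor
  · intro h
    refine ⟨φ.symm v, φ.injective ?_, by simp⟩
    rw [hφ, map_smul, φ.apply_symm_apply]
    exact h
  · rintro ⟨u, hu, rfl⟩
    rw [← hφ, hu, map_smul]

theorem eigenSum_map (φ : V ≃ₗ[ℝ] V) (hφ : ∀ u v, φ (mul u v) = mul (φ u) (φ v)) (a : V)
    (S : Set ℝ) : eigenSum mul (φ a) S = (eigenSum mul a S).map (φ : V →ₗ[ℝ] V) := by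
  simp only [eigenSum, eigen_map φ hφ, Submodule.map_iSup]

/-- Majorana pairs are carried to Majorana pairs by automorphisms of the ambient structure. -/
theorem pair_map (h : IsMajoranaPair mul B μ a) (φ : V ≃ₗ[ℝ] V)
    (hφ : ∀ u v, φ (mul u v) = mul (φ u) (φ v)) (hB : ∀ u v, B (φ u) (φ v) = B u v) :
    IsMajoranaPair mul B (φ * μ * φ⁻¹) (φ a) := by
  obtain ⟨hm, hf, ⟨⟨hne, hid, htop, hfus⟩, hprim⟩, hfix, hneg⟩ := h
  have happ : ∀ u, (φ * μ * φ⁻¹) u = φ (μ (φ.symm u)) := fun u => rfl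
  have hsymm : ∀ u v, φ.symm (mul u v) = mul (φ.symm u) (φ.symm v) := fun u v => by
    apply φ.injective
    rw [hφ, φ.apply_symm_apply, φ.apply_symm_apply, φ.apply_symm_apply]
  refine ⟨?_, ?_, ⟨⟨?_, ?_, ?_, ?_⟩, ?_⟩, ?_, ?_⟩
  · intro u v
    simp only [happ, hsymm, hm, hφ]
  · intro u v
    simp only [happ, hB, hf]
    conv_rhs => rw [← φ.apply_symm_apply u, ← φ.apply_symm_apply v, hB]
  · exact fun hz => hne (by simpa using hz)
  · rw [← hφ, hid]
  · rw [eigenSum_map φ hφ, htop]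
    simp
  · intro c hc d hd u hu v hv
    rw [eigen_map φ hφ, Submodule.mem_map] at hu hv
    obtain ⟨u, hu, rfl⟩ := hu
    obtain ⟨v, hv, rfl⟩ := hv
    rw [eigenSum_map φ hφ, Submodule.mem_map]
    exact ⟨mul u v, hfus c hc d hd u hu v hv, hφ u v⟩
  · rw [eigen_map φ hφ, hprim, Submodule.map_span, Set.image_singleton]
    rfl
  · intro v hv
    rw [eigenSum_map φ hφ, Submodule.mem_map] at hv
    obtain ⟨u, hu, rfl⟩ := hv
    show φ (μ (φ.symm (φ u))) = φ u
    rw [φ.symm_apply_apply]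
    exact congrArg φ (hfix u hu)
  · intro v hv
    rw [eigen_map φ hφ, Submodule.mem_map] at hv
    obtain ⟨u, hu, rfl⟩ := hv
    show φ (μ (φ.symm (φ u))) = -φ u
    rw [φ.symm_apply_apply, ← map_neg]
    exact congrArg φ (hneg u hu)

/-- The fusion rule `1/4 ⋆ 1/4 ⊆ {1, 0}`. -/
theorem quarter_mul_quarter (h : IsMajoranaPair mul B μ a) {u v : V}
    (hu : mul a u = (1 / 4 : ℝ) • u) (hv : mul a v = (1 / 4 : ℝ) • v) :
    mul u v ∈ eigenSum mul a ({1, 0} : Set ℝ) := by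
  have hS : (1 / 4 : ℝ) ∈ majoranaSpectrum := by simp [majoranaSpectrum]
  have h1 := h.2.2.1.1.2.2.2 _ hS _ hS u (mem_eigen.mpr hu) v (mem_eigen.mpr hv)
  have hl : monsterLaw (1 / 4 : ℝ) (1 / 32) (1 / 4) (1 / 4) = {1, 0} := by
    simp only [monsterLaw]; norm_num
  rwa [hl] at h1

/-- The fusion rule `0 ⋆ 1/4 ⊆ {1/4}`. -/
theorem zero_mul_quarter (h : IsMajoranaPair mul B μ a) {u v : V}
    (hu : mul a u = 0) (hv : mul a v = (1 / 4 : ℝ) • v) :
    mul a (mul u v) = (1 / 4 : ℝ) • mul u v := by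
  have hS0 : (0 : ℝ) ∈ majoranaSpectrum := by simp [majoranaSpectrum]
  have hS : (1 / 4 : ℝ) ∈ majoranaSpectrum := by simp [majoranaSpectrum]
  have h1 := h.2.2.1.1.2.2.2 _ hS0 _ hS u (mem_eigen.mpr (by simpa using hu)) v (mem_eigen.mpr hv)
  have hl : monsterLaw (1 / 4 : ℝ) (1 / 32) 0 (1 / 4) = {1 / 4} := by
    simp only [monsterLaw]; norm_num
  rw [hl, eigenSum_single, mem_eigen] at h1
  exact h1

/-- The fusion rule `0 ⋆ 0 ⊆ {0}`. -/
theorem zero_mul_zero (h : IsMajoranaPair mul B μ a) {u v : V}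
    (hu : mul a u = 0) (hv : mul a v = 0) : mul a (mul u v) = 0 := by
  have hS0 : (0 : ℝ) ∈ majoranaSpectrum := by simp [majoranaSpectrum]
  have h1 := h.2.2.1.1.2.2.2 _ hS0 _ hS0 u (mem_eigen.mpr (by simpa using hu))
    v (mem_eigen.mpr (by simpa using hv))
  have hl : monsterLaw (1 / 4 : ℝ) (1 / 32) 0 0 = {0} := by
    simp only [monsterLaw]; norm_num
  rw [hl, eigenSum_single, mem_eigen, zero_smul] at h1
  exact h1

/-- A vector fixed by the involution of an axis of squared length one. -/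
theorem fixed_decomp (hV : IsMajoranaAmbient mul B) (h : IsMajoranaPair mul B μ a)
    (hn : B a a = 1) {b : V} (hb : μ b = b) :
    ∃ z q : V, mul a z = 0 ∧ mul a q = (1 / 4 : ℝ) • q ∧ B a z = 0 ∧ B a q = 0 ∧
      b = B a b • a + z + q := by
  obtain ⟨-, -, -, hassoc, -⟩ := hV
  obtain ⟨-, -, ⟨⟨-, hid, htop, -⟩, hprim⟩, hfix, hneg⟩ := h
  have hmem : b ∈ eigenSum mul a majoranaSpectrum := htop ▸ Submodule.mem_top
  rw [eigenSum_spectrum, Submodule.mem_sup] at hmem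
  obtain ⟨w, hw, r, hr, rfl⟩ := hmem
  have hwfix : μ w = w := hfix w (by rw [eigenSum_three]; exact hw)
  have hrneg : μ r = -r := hneg r hr
  have hr0 : r = 0 := by
    rw [map_add, hwfix, hrneg, add_right_inj] at hb
    have : (2 : ℝ) • r = 0 := by rw [two_smul]; nth_rewrite 1 [← hb]; simp
    simpa using this
  subst hr0
  obtain ⟨w', hw', q, hq, rfl⟩ := Submodule.mem_sup.mp hw
  obtain ⟨p, hp, z, hz, rfl⟩ := Submodule.mem_sup.mp hw'
  rw [hprim, Submodule.mem_span_singleton] at hp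
  obtain ⟨t, rfl⟩ := hp
  rw [mem_eigen] at hz hq
  rw [zero_smul] at hz
  have key : ∀ v, B a (mul a v) = B a v := fun v => by rw [hassoc, hid]
  have hBz : B a z = 0 := by
    have := key z
    rw [hz, map_zero] at this
    exact this.symm
  have hBq : B a q = 0 := by
    have := key q
    rw [hq, map_smul, smul_eq_mul] at this
    linarith
  refine ⟨z, q, hz, hq, hBz, hBq, ?_⟩
  simp [hn, hBz, hBq]

end Pair

end Cfsg.Agent.Axial
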